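import Groth.Agent.AdeqZar.PiZar
import Groth.Agent.AdeqCoh.Opens
import Groth.Agent.EtaleSite.AdjExt

/-!
# Zariski and fppf cohomology of sheaves without higher cohomology on affines
-/

set_option autoImplicit false
set_option backward.isDefEq.respectTransparency false
set_option linter.unusedSectionVars false

universe u

open CategoryTheory CategoryTheory.Limits AlgebraicGeometry Opposite TopologicalSpace
open CategoryTheory.Abelian (Ext)

noncomputable section

namespace Groth.Agent.AdeqZar

universe w w' v v' z z'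

/-- Ext groups along an adjunction with exact left adjoint. -/
theorem nonempty_ext_equiv_of_adj {C : Type z} [Category.{v} C] [Abelian C] [EnoughInjectives C] [HasExt.{w} C]
    {D : Type z'} [Category.{v'} D] [Abelian D] [HasExt.{w'} D]
    {L : D ⥤ C} [L.Additive] [PreservesFiniteLimits L] [PreservesFiniteColimits L]
    {R : C ⥤ D} [R.Additive] [PreservesFiniteLimits R] (adj : L ⊣ R) {A : D} {A' : C} (e : L.obj A ≅ A') (F : C)
    (hF : ∀ q : ℕ, 0 < q → IsZero ((R.rightDerived q).obj F)) (n : ℕ) :
    Nonempty (Ext A (R.obj F) n ≃+ Ext A' F n) := by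
  have hb := EtaleSite.AdjExt.toExt_bijective adj n A F hF
  let f : Ext A (R.obj F) n →+ Ext A' F n :=
    AddMonoidHom.mk' (fun x => (Ext.mk₀ e.inv).comp (EtaleSite.AdjExt.toExt adj A F n x) (zero_add n))
      (fun x y => by simp [EtaleSite.AdjExt.toExt, Ext.mapExactFunctor_add, Ext.add_comp, Ext.comp_add])
  have hp : Function.Bijective (fun y : Ext (L.obj A) F n => (Ext.mk₀ e.inv).comp y (zero_add n)) := by
    refine Function.bijective_iff_has_inverse.2
      ⟨fun y => (Ext.mk₀ e.hom).comp y (zero_add n), fun y => ?_, fun y => ?_⟩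
    · simp only [Ext.mk₀_comp_mk₀_assoc, e.hom_inv_id, Ext.mk₀_id_comp]
    · simp only [Ext.mk₀_comp_mk₀_assoc, e.inv_hom_id, Ext.mk₀_id_comp]
  exact ⟨AddEquiv.ofBijective f (hp.comp hb)⟩

open Groth.Agent.AdeqCoh
open BigSite (Ab pullBig H HU sect resZar piZarPull piZarAdj)

attribute [local instance 2000] AdeqCoh.hasSheafify_big AdeqCoh.hasExt_big

variable {K : Precoverage Scheme.{u}} {S : Scheme.{u}} [BigSite.ZarCont K S]

/-- Sheaves without higher cohomology on affine objects. -/
def AffVan : ObjectProperty (Ab K S) := fun F => ∀ n, Van F n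

theorem affVan_injective (I : Ab K S) (hI : Injective I) : AffVan I := fun _ U _ j h1 _ => by
  obtain ⟨m, rfl⟩ : ∃ k, j = k + 1 := ⟨j - 1, by omega⟩
  have : Injective ((pullBig K U.hom AddCommGrpCat.{u + 1}).obj I) :=
    Functor.injective_obj (pullBig K U.hom AddCommGrpCat.{u + 1}) I
  exact subsingleton_of_forall_eq 0 fun e => e.eq_zero_of_injective

theorem goodClass_resZar : ModShf.AcyclicRes.GoodClass (resZar K S) (AffVan (K := K) (S := S)) where
  of_injective := affVan_injective
  coker C hC h₁ h₂ := fun n U hU j h1 _ => by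
    refine subsingleton_of_forall_eq 0 fun c => ?_
    have hSU := hC.map_of_exact (pullBig K U.hom AddCommGrpCat.{u + 1})
    obtain ⟨y, hy⟩ := Ext.covariant_sequence_exact₃ _ hSU c rfl
      ((h₁ (j + 1) U hU (j + 1) (by omega) le_rfl).elim _ _)
    have := h₂ j U hU j h1 le_rfl
    rw [← hy, this.elim y 0]
    exact Ext.zero_comp _ _ _ _ _
  epi C hC h₁ := by
    have : Sheaf.IsLocallySurjective ((resZar K S).map C.g) := ⟨fun {U} s x hx => by
      obtain ⟨V, hV, hxV, hVU⟩ := exists_isAffineOpen_mem_and_subset (U := U) hx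
      let h : V ⟶ U := homOfLE hVU
      have : IsAffine ((BigSite.zarIncl S).obj V).left := hV
      obtain ⟨t, ht⟩ := exists_sap_eq hC ((BigSite.zarIncl S).obj V)
        (h₁ 1 _ this 1 le_rfl le_rfl) (srs C.X₃ ((BigSite.zarIncl S).map h) s)
      exact ⟨V, h, ⟨t, ht⟩, hxV⟩⟩
    exact Sheaf.epi_of_isLocallySurjective _

theorem isZero_RresZar (F : Ab K S) (hF : AffVan F) (q : ℕ) (hq : 0 < q) :
    IsZero (((resZar K S).rightDerived q).obj F) := by
  obtain ⟨k, rfl⟩ : ∃ k, q = k + 1 := ⟨q - 1, by omega⟩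
  exact isZero_rightDerived_of_goodClass (resZar K S) goodClass_resZar k F hF

/-- The comparison of Zariski and big cohomology. -/
theorem nonempty_zarH_equiv (F : Ab K S) (hF : AffVan F) (n : ℕ) :
    Nonempty (EtZar.H ((resZar K S).obj F) n ≃+ H K S F n) :=
  nonempty_ext_equiv_of_adj (piZarAdj K S) ((piZarPullConstIso S K).app (AddCommGrpCat.of (ULift.{u + 1} ℤ))) F
    (isZero_RresZar F hF) n

end Groth.Agent.AdeqZar
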