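import Groth.Prelude.Def_BigSite
import Groth.Agent.FlatLan.Basic
import Mathlib.AlgebraicGeometry.Restrict
import Mathlib.CategoryTheory.Sites.ConstantSheaf

/-!
# The pullback from the small Zariski site to a big site is exact
-/

set_option autoImplicit false
set_option backward.isDefEq.respectTransparency false

universe u

open CategoryTheory CategoryTheory.Limits AlgebraicGeometry Opposite TopologicalSpace

noncomputable section

namespace Groth.Agent.AdeqZar

variable (S : Scheme.{u})

theorem zarIncl_left (U : S.Opens) : ((BigSite.zarIncl S).obj U).left = (U : Scheme.{u}) := rfl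

/-- A map to an open. -/
def toInf {U V : S.Opens} {X : Over S} (a : X ⟶ (BigSite.zarIncl S).obj U) (b : X ⟶ (BigSite.zarIncl S).obj V) :
    X ⟶ (BigSite.zarIncl S).obj (U ⊓ V) :=
  Over.homMk ((isPullback_opens_inf U V).lift a.left b.left ((Over.w a).trans (Over.w b).symm)) (by
    change (isPullback_opens_inf U V).lift a.left b.left _ ≫ (U ⊓ V).ι = X.hom
    rw [← S.homOfLE_ι (inf_le_left : U ⊓ V ≤ U), IsPullback.lift_fst_assoc]
    exact Over.w a)

instance isMono_incl (U : S.Opens) : Mono ((BigSite.zarIncl S).obj U).hom := inferInstanceAs (Mono U.ι)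

theorem hom_ext {X : Over S} {U : S.Opens} (f g : X ⟶ (BigSite.zarIncl S).obj U) : f = g :=
  Over.OverMorphism.ext ((cancel_mono ((BigSite.zarIncl S).obj U).hom).1 ((Over.w f).trans (Over.w g).symm))

instance representablyFlat_zarIncl : RepresentablyFlat (BigSite.zarIncl S) where
  cofiltered X :=
    { nonempty :=
        ⟨StructuredArrow.mk (Y := (⊤ : S.Opens))
          (Over.homMk (X.hom ≫ S.topIso.inv) (by
            change (X.hom ≫ S.topIso.inv) ≫ (⊤ : S.Opens).ι = X.hom
            rw [Category.assoc, ← Scheme.topIso_hom, Iso.inv_hom_id, Category.comp_id]))⟩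
      cone_objs := fun A B =>
        ⟨StructuredArrow.mk (toInf S A.hom B.hom),
          StructuredArrow.homMk (homOfLE inf_le_left) (hom_ext S _ _),
          StructuredArrow.homMk (homOfLE inf_le_right) (hom_ext S _ _), trivial⟩
      cone_maps := fun A B f g => ⟨A, 𝟙 A, by
        refine congrArg (𝟙 A ≫ ·) (StructuredArrow.hom_ext f g ?_)
        exact Subsingleton.elim _ _⟩ }

variable (K : Precoverage Scheme.{u}) [BigSite.ZarCont K S]

instance preservesFiniteLimits_piZarPull : PreservesFiniteLimits (BigSite.piZarPull K S) := by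
  have : PreservesFiniteLimits ((BigSite.zarIncl S).op.lan :
      (S.Opensᵒᵖ ⥤ AddCommGrpCat.{u + 1}) ⥤ _) :=
    FlatLan.preservesFiniteLimits_lan _ _ (fun X _ =>
      FlatLan.hasExactColimitsOfShape_of_essentiallySmall _ _)
  exact Functor.sheafPullbackConstruction.preservesFiniteLimits _ _ _ _

instance preservesFiniteColimits_piZarPull : PreservesFiniteColimits (BigSite.piZarPull K S) :=
  have := (BigSite.piZarAdj K S).leftAdjoint_preservesColimits
  inferInstance

instance additive_piZarPull : (BigSite.piZarPull K S).Additive :=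
  Functor.additive_of_preserves_binary_products _

instance preservesFiniteLimits_resZar : PreservesFiniteLimits (BigSite.resZar K S) :=
  have := (BigSite.piZarAdj K S).rightAdjoint_preservesLimits
  inferInstance

/-- The whole space is final. -/
def topTerminalOpens : IsTerminal (⊤ : S.Opens) :=
  IsTerminal.ofUniqueHom (fun _ => homOfLE le_top) fun _ _ => Subsingleton.elim _ _

/-- Global sections of the restriction to the small site are global sections. -/
def resZarSectionsIso :
    BigSite.resZar K S ⋙ (sheafSections (Opens.grothendieckTopology S) AddCommGrpCat.{u + 1}).obj (op ⊤) ≅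
      (sheafSections (QuotSh.J K S) AddCommGrpCat.{u + 1}).obj (op ((BigSite.zarIncl S).obj ⊤)) :=
  NatIso.ofComponents (fun _ => Iso.refl _) (fun _ => by cat_disch)

/-- The image of the whole space is final. -/
def zarInclTopTerminal : IsTerminal ((BigSite.zarIncl S).obj (⊤ : S.Opens)) :=
  Over.mkIdTerminal.ofIso (Over.isoMk S.topIso.symm (by
    change S.topIso.inv ≫ (⊤ : S.Opens).ι = 𝟙 S
    rw [← Scheme.topIso_hom, Iso.inv_hom_id]))

/-- The pullback of a constant sheaf is the constant sheaf. -/
def piZarPullConstIso :
    constantSheaf (Opens.grothendieckTopology S) AddCommGrpCat.{u + 1} ⋙ BigSite.piZarPull K S ≅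
      constantSheaf (QuotSh.J K S) AddCommGrpCat.{u + 1} :=
  Adjunction.leftAdjointUniq
    ((constantSheafAdj (Opens.grothendieckTopology S) AddCommGrpCat.{u + 1} (topTerminalOpens S)).comp
      (BigSite.piZarAdj K S))
    ((constantSheafAdj (QuotSh.J K S) AddCommGrpCat.{u + 1} (zarInclTopTerminal S)).ofNatIsoRight
      (resZarSectionsIso S K).symm)

end Groth.Agent.AdeqZar
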